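import Cfsg.Agent.Lib.Chev.PoincareF4
import Cfsg.Agent.Lib.G2Sections.DiagSimilar

/-!
In characteristic two the short root vectors and the coroots of the short fundamental roots span a subspace of
the adjoint module of F4 which the group preserves; its characters separate more classes of semisimple elements.
-/

set_option autoImplicit false

namespace Cfsg.Agent.Lib.AltSections

open Cfsg.Lie Cfsg.Agent.Lib.Chev Matrix

/-- The short roots. -/
def shortList : List ℕ := [3, 7, 8, 9, 10, 11, 12, 13, 14, 18, 19, 20, 27, 28, 29, 33, 34, 35, 36, 37, 38, 39, 40, 44]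

theorem shortList_lt : ∀ r ∈ shortList, r < 48 := by decide

/-- The coordinates of the invariant subspace. -/
def shortEmb (j : Fin 26) : chevF4.Idx :=
  if h : j.val < 2 then Sum.inl ⟨j.val, show j.val < 4 by omega⟩
  else Sum.inr ⟨shortList.getD (j.val - 2) 0, by
    show shortList.getD (j.val - 2) 0 < 48
    have : j.val - 2 < shortList.length := by
      show j.val - 2 < 24
      omega
    rw [List.getD_eq_getElem _ _ this]
    exact shortList_lt _ (List.getElem_mem this)⟩

theorem shortEmb_injective : Function.Injective shortEmb := by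
  unfold Function.Injective
  decide +kernel

/-- Membership in the invariant subspace, as a Boolean. -/
def inShort : chevF4.Idx → Bool
  | Sum.inl i => Nat.blt i.val 2
  | Sum.inr r => shortList.contains r.val

theorem inShort_iff : ∀ x : chevF4.Idx, inShort x = true ↔ ∃ j, shortEmb j = x := by decide +kernel

/-- The evenness of the entries leading out of the subspace. -/
def chkShort : Bool :=
  allN 48 fun r =>
    (shortList.contains r || (allN 2 fun i => decide ((chevF4.cartanSR.getD i #[]).getD r 0 % 2 = 0))) &&
    allN 48 fun s => !shortList.contains s ||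
      (bif Nat.beq s r then true
      else bif Nat.beq s (chevF4.negIdx.getD r 0) then
        shortList.contains r && allN 4 fun i => Nat.blt i 2 ||
          decide ((chevF4.coroot.getD r #[]).getD i 0 % 2 = 0)
      else allN 48 fun u => shortList.contains u ||
        ((chevF4.chainCoeff r s u).all fun km => decide (km.2 % 2 = 0)))

theorem chkShort_ok : chkShort = true := by decide +kernel

variable {K : Type*} [Field K]

/-- A matrix preserves the subspace. -/
def PresShort (M : Matrix chevF4.Idx chevF4.Idx K) : Prop :=
  ∀ x j, inShort x = false → M x (shortEmb j) = 0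

theorem presShort_one : PresShort (1 : Matrix chevF4.Idx chevF4.Idx K) := fun x j hx => by
  refine Matrix.one_apply_ne fun e => ?_
  rw [(inShort_iff x).2 ⟨j, e.symm⟩] at hx
  exact absurd hx (by decide)

theorem sum_eq_short {f : chevF4.Idx → K} (hf : ∀ x, inShort x = false → f x = 0) :
    ∑ x, f x = ∑ j, f (shortEmb j) := by
  refine (Fintype.sum_of_injective shortEmb shortEmb_injective _ f (fun x hx => hf x ?_) fun _ => rfl).symm
  rcases h : inShort x
  · rfl
  · exact absurd ((inShort_iff x).1 h) (by simpa using hx)

theorem PresShort.mul {M N : Matrix chevF4.Idx chevF4.Idx K} (hM : PresShort M) (hN : PresShort N) :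
    PresShort (M * N) := fun x j hx => by
  rw [Matrix.mul_apply, sum_eq_short (fun y hy => by rw [hN y j hy, mul_zero])]
  exact Finset.sum_eq_zero fun i _ => by rw [hM x i hx, zero_mul]

theorem presShort_submatrix_mul {M N : Matrix chevF4.Idx chevF4.Idx K} (hN : PresShort N) :
    (M * N).submatrix shortEmb shortEmb = M.submatrix shortEmb shortEmb * N.submatrix shortEmb shortEmb := by
  ext i j
  rw [Matrix.submatrix_apply, Matrix.mul_apply, Matrix.mul_apply,
    sum_eq_short (fun y hy => by rw [hN y j hy, mul_zero])]
  rfl

theorem cast_eq_zero_of_even [CharP K 2] {z : ℤ} (h : z % 2 = 0) : (z : K) = 0 :=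
  (CharP.intCast_eq_zero_iff K 2 z).2 (Int.dvd_of_emod_eq_zero h)

theorem presShort_xMat [CharP K 2] (r : Fin chevF4.nroots) (t : K) : PresShort (chevF4.xMat K r t) := by
  have hc := chkShort_ok
  simp only [chkShort, allN_iff, Bool.and_eq_true, Bool.or_eq_true] at hc
  obtain ⟨hca, hcb⟩ := hc r.val r.2
  intro x j hx
  rcases h : shortEmb j with i | s
  · have hi : inShort (Sum.inl i) = true := (inShort_iff _).2 ⟨j, h⟩
    simp only [inShort, Nat.blt_eq] at hi
    rcases x with i' | u
    · simp only [ChevalleyDatum.xMat, Matrix.of_apply]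
      rw [if_neg]
      rintro rfl
      rw [show inShort (Sum.inl i') = true from Nat.blt_eq.mpr hi] at hx
      exact absurd hx (by decide)
    · simp only [ChevalleyDatum.xMat, Matrix.of_apply]
      split_ifs with hu
      · subst hu
        simp only [inShort] at hx
        rcases hca with h' | h'
        · rw [hx] at h'; exact absurd h' Bool.false_ne_true
        · rw [cast_eq_zero_of_even (of_decide_eq_true (h' i.val hi)), neg_zero, zero_mul]
      · rfl
  · have hs : inShort (Sum.inr s) = true := (inShort_iff _).2 ⟨j, h⟩
    simp only [inShort] at hs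
    have hsr := hcb s.val s.2
    simp only [Bool.not_eq_true', hs, Bool.true_eq_false, false_or] at hsr
    simp only [ChevalleyDatum.xMat, Matrix.of_apply]
    by_cases h1 : s = r
    · rw [if_pos h1]
      rcases x with i' | u
      · rfl
      · refine if_neg fun e => ?_
        rw [e, ← h1] at hx
        simp only [inShort] at hx
        rw [hs] at hx
        exact absurd hx (by decide)
    · rw [if_neg h1]
      rw [show Nat.beq s.val r.val = false from Bool.eq_false_iff.2 fun e =>
        h1 (Fin.ext (Nat.eq_of_beq_eq_true e)), Bool.cond_false] at hsr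
      by_cases h2 : s.val = chevF4.negIdx.getD r.val 0
      · rw [if_pos h2]
        rw [show Nat.beq s.val (chevF4.negIdx.getD r.val 0) = true from Nat.beq_eq.mpr h2,
          Bool.cond_true, Bool.and_eq_true, allN_iff] at hsr
        obtain ⟨hrs, hco⟩ := hsr
        rcases x with i' | u
        · simp only [inShort] at hx
          have := hco i'.val i'.2
          rw [hx, Bool.false_or] at this
          show (((chevF4.coroot.getD r.val #[]).getD i'.val 0 : ℤ) : K) * t = 0
          rw [cast_eq_zero_of_even (of_decide_eq_true this), zero_mul]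
        · simp only [inShort] at hx
          show (if u = s then (1 : K) else if u = r then -(t ^ 2) else 0) = 0
          split_ifs with e e'
          · subst e; rw [hs] at hx; exact absurd hx (by decide)
          · subst e'; rw [hrs] at hx; exact absurd hx (by decide)
          · rfl
      · rw [if_neg h2]
        rw [show Nat.beq s.val (chevF4.negIdx.getD r.val 0) = false from Bool.eq_false_iff.2 fun e =>
          h2 (Nat.eq_of_beq_eq_true e), Bool.cond_false, allN_iff] at hsr
        rcases x with i' | u
        · rfl
        · simp only [inShort] at hx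
          have := hsr u.val u.2
          rw [hx, Bool.false_or, List.all_eq_true] at this
          show (if u = s then (1 : K) else 0) + _ = 0
          rw [if_neg (by rintro rfl; rw [hs] at hx; exact absurd hx (by decide)), zero_add]
          refine List.sum_eq_zero fun a ha => ?_
          obtain ⟨km, hkm, rfl⟩ := List.mem_map.1 ha
          rw [cast_eq_zero_of_even (of_decide_eq_true (this km hkm)), zero_mul]

theorem presShort_of_mem [Fintype K] [CharP K 2] {g : GL chevF4.Idx K} (hg : g ∈ chevF4.group K) :
    PresShort (g : Matrix chevF4.Idx chevF4.Idx K) := by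
  classical
  let S : Submonoid (GL chevF4.Idx K) :=
    { carrier := {g | PresShort (g : Matrix chevF4.Idx chevF4.Idx K)}
      one_mem' := by simpa using presShort_one (K := K)
      mul_mem' := fun ha hb => by
        show PresShort _
        rw [Units.val_mul]; exact PresShort.mul ha hb }
  have hgrp : chevF4.group K ≤
      { toSubmonoid := S
        inv_mem' := by
          intro a ha
          rw [inv_eq_of_mul_eq_one_right (b := a ^ (orderOf a - 1)) (by
            rw [← pow_succ', Nat.sub_add_cancel (orderOf_pos a), pow_orderOf_eq_one])]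
          exact (pow_mem (show a ∈ S from ha) _ : _ ∈ S) } := by
    refine Subgroup.closure_le _ |>.2 ?_
    rintro a ⟨r, t, ha⟩
    show PresShort _
    rw [ha]
    exact presShort_xMat r t
  exact hgrp hg

/-- The restriction to the invariant subspace. -/
noncomputable def shortHom (K : Type*) [Field K] [Fintype K] [CharP K 2] :
    ↥(chevF4.group K) →* GL (Fin 26) K where
  toFun g := ⟨(g : GL chevF4.Idx K).1.submatrix shortEmb shortEmb,
    ((g⁻¹ : ↥(chevF4.group K)) : GL chevF4.Idx K).1.submatrix shortEmb shortEmb, by
      rw [← presShort_submatrix_mul (presShort_of_mem (g⁻¹).2), ← Units.val_mul, ← Subgroup.coe_mul,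
        mul_inv_cancel, OneMemClass.coe_one, Units.val_one, Matrix.submatrix_one _ shortEmb_injective], by
      rw [← presShort_submatrix_mul (presShort_of_mem g.2), ← Units.val_mul, ← Subgroup.coe_mul,
        inv_mul_cancel, OneMemClass.coe_one, Units.val_one, Matrix.submatrix_one _ shortEmb_injective]⟩
  map_one' := Units.ext (by
    show ((1 : GL chevF4.Idx K) : Matrix _ _ K).submatrix shortEmb shortEmb = 1
    rw [Units.val_one, Matrix.submatrix_one _ shortEmb_injective])
  map_mul' a b := Units.ext (by
    show ((a * b : ↥(chevF4.group K)) : GL chevF4.Idx K).1.submatrix shortEmb shortEmb = _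
    rw [Subgroup.coe_mul, Units.val_mul, presShort_submatrix_mul (presShort_of_mem b.2)]
    rfl)

/-- Conjugate diagonal elements have the same eigenvalues on the invariant subspace. -/
theorem short_map_eq_of_conj [Fintype K] [CharP K 2] {y y' g : ↥(chevF4.group K)} {v v' : chevF4.Idx → K}
    (hy : (y : GL chevF4.Idx K).1 = diagonal v) (hy' : (y' : GL chevF4.Idx K).1 = diagonal v')
    (h : g * y * g⁻¹ = y') :
    Finset.univ.val.map (v ∘ shortEmb) = Finset.univ.val.map (v' ∘ shortEmb) := by
  refine G2Sections.map_eq_of_conj_diagonal (P := shortHom K g) ?_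
  have e1 : (shortHom K y).1 = diagonal (v ∘ shortEmb) := by
    show (y : GL chevF4.Idx K).1.submatrix shortEmb shortEmb = _
    rw [hy, Matrix.submatrix_diagonal _ _ shortEmb_injective]
  have e2 : (shortHom K y').1 = diagonal (v' ∘ shortEmb) := by
    show (y' : GL chevF4.Idx K).1.submatrix shortEmb shortEmb = _
    rw [hy', Matrix.submatrix_diagonal _ _ shortEmb_injective]
  rw [← e1, ← e2, ← map_inv, ← Units.val_mul, ← Units.val_mul, ← map_mul, ← map_mul, h]

/-- The Cartan integers modulo seven at the short roots and the two short coroots. -/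
def shortVec : List (List ℕ) :=
  [[0, 0, 0, 0], [0, 0, 0, 0], [6, 0, 0, 0], [1, 6, 0, 0], [0, 1, 6, 0], [0, 6, 1, 6], [0, 6, 0, 1], [6, 1, 0, 6], [6, 1, 6, 1], [6, 6, 1, 0], [5, 1, 0, 0], [1, 0, 0, 6], [1, 0, 6, 1], [1, 5, 1, 0], [6, 2, 6, 0], [6, 0, 1, 6], [6, 0, 0, 1], [2, 6, 0, 0], [1, 1, 6, 0], [1, 6, 1, 6], [1, 6, 0, 1], [0, 1, 0, 6], [0, 1, 6, 1], [0, 6, 1, 0], [6, 1, 0, 0], [1, 0, 0, 0]]

/-- A numerical code of the multiset of exponents of a torus element on the invariant subspace. -/
def shortKey (a b c d : ℕ) : ℕ :=
  (shortVec.map fun v => 32 ^ ((a * v.getD 0 0 + b * v.getD 1 0 + c * v.getD 2 0 + d * v.getD 3 0) % 7)).sum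

/-- The exponents of a torus element on the invariant subspace. -/
def shortExp (a : Fin 4 → ZMod 7) (j : Fin 26) : ZMod 7 :=
  Sum.elim (fun _ => 0) (fun s => ∑ i : Fin 4, a i * (chevF4.cartan i.val s.val : ℤ)) (shortEmb j)

theorem shortVec_eq : ∀ j : Fin 26, ∀ i : Fin 4,
    Sum.elim (fun _ => (0 : ZMod 7)) (fun s => ((chevF4.cartan i.val s.val : ℤ) : ZMod 7)) (shortEmb j) =
      (((shortVec.getD j.val []).getD i.val 0 : ℕ) : ZMod 7) := by
  decide +kernel

theorem shortKey_eq (a : Fin 4 → ZMod 7) :
    shortKey (a 0).val (a 1).val (a 2).val (a 3).val =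
      ((Finset.univ.val.map (shortExp a)).map fun e => 32 ^ e.val).sum := by
  have hl : shortVec = List.ofFn fun j : Fin 26 => shortVec.getD j.val [] := by decide +kernel
  rw [Multiset.map_map, ← Finset.sum_eq_multiset_sum]
  unfold shortKey
  conv_lhs => rw [hl]
  rw [List.map_ofFn, List.sum_ofFn]
  refine Finset.sum_congr rfl fun j _ => ?_
  simp only [Function.comp_apply]
  congr 1
  have hv := shortVec_eq j
  have he : shortExp a j = ∑ i : Fin 4, a i * (((shortVec.getD j.val []).getD i.val 0 : ℕ) : ZMod 7) := by
    unfold shortExp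
    rcases h : shortEmb j with x | x <;> simp only [h, Sum.elim_inl, Sum.elim_inr] at hv ⊢
    · exact (Finset.sum_eq_zero fun i _ => by rw [← hv i, mul_zero]).symm
    · exact Finset.sum_congr rfl fun i _ => by rw [hv i]
  rw [he, ← ZMod.val_natCast]
  simp [Fin.sum_univ_four]

/-- No nontrivial exponents are stable both under doubling and under the exceptional isogeny. -/
def chkSeven : Bool :=
  allN 7 fun a => allN 7 fun b => allN 7 fun c => allN 7 fun d =>
    Nat.beq (a + b + c + d) 0 ||
    !(Nat.beq (shortKey a b c d) (shortKey (2 * a % 7) (2 * b % 7) (2 * c % 7) (2 * d % 7)) &&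
      Nat.beq (shortKey a b c d) (shortKey (2 * d % 7) (2 * c % 7) (4 * b % 7) (4 * a % 7)))

theorem chkSeven_ok : chkSeven = true := by decide +kernel

theorem eq_zero_of_stable (a : Fin 4 → ZMod 7)
    (h2 : Finset.univ.val.map (shortExp a) = Finset.univ.val.map (shortExp fun i => 2 * a i))
    (hs : Finset.univ.val.map (shortExp a) =
      Finset.univ.val.map (shortExp ![2 * a 3, 2 * a 2, 4 * a 1, 4 * a 0])) : ∀ i, a i = 0 := by
  have e2 := congrArg (fun m : Multiset (ZMod 7) => (m.map fun e => 32 ^ e.val).sum) h2
  have es := congrArg (fun m : Multiset (ZMod 7) => (m.map fun e => 32 ^ e.val).sum) hs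
  simp only [← shortKey_eq] at e2 es
  have hv : ∀ n : ℕ, ∀ x : ZMod 7, ((n : ZMod 7) * x).val = n * x.val % 7 := fun n x => by
    rw [ZMod.val_mul, ZMod.val_natCast, Nat.mod_mul_mod]
  have h4 := hv 4; have h2' := hv 2
  simp only [Nat.cast_ofNat] at h4 h2'
  simp only [Matrix.cons_val_zero, Matrix.cons_val_one, Matrix.cons_val, h4, h2'] at e2 es
  have hc := chkSeven_ok
  simp only [chkSeven, allN_iff, Bool.or_eq_true, Nat.beq_eq] at hc
  rcases hc _ (ZMod.val_lt (a 0)) _ (ZMod.val_lt (a 1)) _ (ZMod.val_lt (a 2)) _ (ZMod.val_lt (a 3))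
    with h | h
  · intro i
    refine (ZMod.val_eq_zero (a i)).1 ?_
    fin_cases i <;> simp only [Fin.zero_eta, Fin.mk_one, Fin.reduceFinMk] <;> omega
  · rw [Bool.not_eq_true', Bool.and_eq_false_iff] at h
    rcases h with h | h
    · rw [← e2, Nat.beq_refl] at h; exact absurd h (by decide)
    · rw [← es, Nat.beq_refl] at h; exact absurd h (by decide)

end Cfsg.Agent.Lib.AltSections
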