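import Cfsg.Agent.Lib.Chev.Orders
import Cfsg.Agent.Lib.Chev.DiagGroup

/-!
If the field has `q ≡ 1` modulo a prime `ℓ` which divides no degree, the torus of a Chevalley group
contains a Sylow `ℓ`-subgroup.
-/

set_option autoImplicit false

namespace Cfsg.Agent.Lib.AltSections

open Cfsg.Lie Cfsg.Agent.Lib.Chev

theorem pow_sub_one_eq_mul_geom (q e : ℕ) (hq : 1 ≤ q) :
    q ^ e - 1 = (q - 1) * ∑ i ∈ Finset.range e, q ^ i := by
  have h := geom_sum_mul_add (q - 1) e
  rw [Nat.sub_add_cancel hq] at h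
  rw [← h, Nat.add_sub_cancel, mul_comm]

theorem list_prod_pow_sub_one (q : ℕ) (hq : 1 ≤ q) (ds : List ℕ) :
    (ds.map fun e => q ^ e - 1).prod =
      (q - 1) ^ ds.length * (ds.map fun e => ∑ i ∈ Finset.range e, q ^ i).prod := by
  induction ds with
  | nil => simp
  | cons e ds ih =>
    rw [List.map_cons, List.prod_cons, ih, List.map_cons, List.prod_cons, List.length_cons,
      pow_sub_one_eq_mul_geom q e hq, pow_succ]
    ring

theorem not_dvd_geom_prod {ℓ q : ℕ} (hl : ℓ.Prime) (hq : q % ℓ = 1) (ds : List ℕ) (h : ¬ ℓ ∣ ds.prod) :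
    ¬ ℓ ∣ (ds.map fun e => ∑ i ∈ Finset.range e, q ^ i).prod := by
  haveI := Fact.mk hl
  have hq1 : (q : ZMod ℓ) = 1 := by rw [← ZMod.natCast_mod, hq, Nat.cast_one]
  rw [← ZMod.natCast_eq_zero_iff] at h ⊢
  rw [Nat.cast_list_prod] at h ⊢
  simpa [List.map_map, Function.comp_def, hq1] using h

variable {D : ChevalleyDatum} {C : Cert} {K : Type*} [Field K] [Fintype K]

theorem not_dvd_index_diagonal (hh : Rooted D C) {d : List ℕ} {os : List OrbitCert} {ds : List ℕ}
    (hs : SmithOK D C d) (hc : chkChain D C (List.range D.rank) os = true) (hp : chkPoly D C os ds = true)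
    (hlen : ds.length = D.rank) {ℓ : ℕ} (hl : ℓ.Prime) (hq : Fintype.card K % ℓ = 1) (hd : ¬ ℓ ∣ ds.prod) :
    ¬ ℓ ∣ ((D.diagonalSubgroup K).subgroupOf (D.group K)).index := by
  set q := Fintype.card K with hqdef
  have hq1 : 1 ≤ q := Fintype.card_pos
  set T := (D.diagonalSubgroup K).subgroupOf (D.group K)
  have h1 := hh.card_group_mul (F := K) hs hc hp
  have h2 := hh.card_diagonal (F := K) hs
  rw [← hqdef] at h1 h2
  rw [list_prod_pow_sub_one q hq1 ds, hlen, ← T.card_mul_index,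
    show Nat.card T = Nat.card ↥(D.diagonalSubgroup K) from
      Nat.card_congr (Subgroup.subgroupOfEquivOfLe hh.diagonal_le_group).toEquiv, ← mul_assoc, h2,
    mul_left_comm] at h1
  have hne : 0 < (q - 1) ^ D.rank := by
    have : 1 < q := Fintype.one_lt_card
    exact pow_pos (by omega) _
  have hidx := Nat.eq_of_mul_eq_mul_left hne h1
  rw [hidx, hl.dvd_mul]
  rintro (h | h)
  · have := hl.dvd_of_dvd_pow h
    rw [Nat.dvd_iff_mod_eq_zero, hq] at this
    exact one_ne_zero this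
  · exact not_dvd_geom_prod hl hq ds hd h

theorem exists_conj_mem_diagonal (hh : Rooted D C) {d : List ℕ} {os : List OrbitCert} {ds : List ℕ}
    (hs : SmithOK D C d) (hc : chkChain D C (List.range D.rank) os = true) (hp : chkPoly D C os ds = true)
    (hlen : ds.length = D.rank) {ℓ : ℕ} [Fact ℓ.Prime] (hq : Fintype.card K % ℓ = 1) (hd : ¬ ℓ ∣ ds.prod)
    (S : Subgroup ↥(D.group K)) (hS : IsPGroup ℓ S) :
    ∃ h : ↥(D.group K), ∀ x ∈ S, ((h * x * h⁻¹ : ↥(D.group K)) : GL D.Idx K) ∈ D.diagonalSubgroup K := by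
  have hl : ℓ.Prime := Fact.out
  set T := (D.diagonalSubgroup K).subgroupOf (D.group K) with hT
  obtain ⟨P⟩ : Nonempty (Sylow ℓ T) := inferInstance
  let P₀ : Subgroup ↥(D.group K) := (P : Subgroup T).map T.subtype
  have hidx : ¬ ℓ ∣ P₀.index := by
    rw [Subgroup.index_map_subtype, hl.dvd_mul]
    exact not_or.2 ⟨P.not_dvd_index, not_dvd_index_diagonal hh hs hc hp hlen hl hq hd⟩
  let Q : Sylow ℓ ↥(D.group K) := (P.2.map _ : IsPGroup ℓ P₀).toSylow hidx
  obtain ⟨R, hR⟩ := hS.exists_le_sylow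
  obtain ⟨h, hh'⟩ := MulAction.exists_smul_eq ↥(D.group K) R Q
  refine ⟨h, fun x hx => ?_⟩
  have hmem : h * x * h⁻¹ ∈ (Q : Subgroup ↥(D.group K)) := by
    rw [← hh', Sylow.coe_subgroup_smul]
    exact Subgroup.smul_mem_pointwise_smul x (MulAut.conj h) _ (hR hx)
  obtain ⟨y, -, hy⟩ := hmem
  rw [← hy]
  exact y.2

theorem commute_of_isPGroup (hh : Rooted D C) {d : List ℕ} {os : List OrbitCert} {ds : List ℕ}
    (hs : SmithOK D C d) (hc : chkChain D C (List.range D.rank) os = true) (hp : chkPoly D C os ds = true)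
    (hlen : ds.length = D.rank) {ℓ : ℕ} [Fact ℓ.Prime] (hq : Fintype.card K % ℓ = 1) (hd : ¬ ℓ ∣ ds.prod)
    (S : Subgroup ↥(D.group K)) (hS : IsPGroup ℓ S) : ∀ a ∈ S, ∀ b ∈ S, a * b = b * a := by
  intro a ha b hb
  obtain ⟨h, hh'⟩ := exists_conj_mem_diagonal hh hs hc hp hlen hq hd S hS
  have e : (h * a * h⁻¹) * (h * b * h⁻¹) = (h * b * h⁻¹) * (h * a * h⁻¹) :=
    Subtype.ext (hh.diagonal_commute (hh' a ha) (hh' b hb))
  simp only [mul_assoc, inv_mul_cancel_left] at e
  exact mul_right_cancel (b := h⁻¹) (by simpa only [mul_assoc] using mul_left_cancel e)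

/-- An element of prime order of the diagonal subgroup has coordinates which are roots of unity. -/
theorem exists_coord_roots (hh : Rooted D C) {d : List ℕ} (hs : SmithOK D C d) {ℓ : ℕ} [Fact ℓ.Prime]
    (hd : ∀ i : Fin D.rank, ¬ ℓ ∣ d.getD i.val 0) {y : GL D.Idx K} (hy : y ∈ D.diagonalSubgroup K)
    (hyl : y ^ ℓ = 1) {ζ : Kˣ} (hζ : orderOf ζ = ℓ) :
    ∃ a : ℕ → ℤ, torusHom D K (fun i => ζ ^ a i) = y := by
  classical
  have hl : ℓ.Prime := Fact.out
  rw [hh.diagonalSubgroup_eq] at hy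
  obtain ⟨c, rfl⟩ := hy
  set M := (zpowMap Kˣ (cmMat D C)).ker with hM
  have hcop : ℓ.Coprime (Nat.card M) := by
    rw [hM, card_ker_of_smith hs, Nat.coprime_prod_right_iff]
    intro i _
    rw [hl.coprime_iff_not_dvd]
    exact fun h => hd i (h.trans (Nat.gcd_dvd_right _ _))
  obtain ⟨m, -, hm⟩ := Nat.exists_mul_mod_eq_one_of_coprime hcop.symm hl.one_lt
  -- replace the coordinates by suitable powers
  let c' : ℕ → Kˣ := c ^ (Nat.card M * m)
  have hc' : ∀ i < D.rank, c' i ^ ℓ = 1 := by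
    have h1 : torusHom D K (c ^ ℓ) = 1 := by rw [map_pow, hyl]
    rw [hh.toChecked.torusHom_eq_one_iff, ← MonoidHom.mem_ker] at h1
    intro i hi
    have h2 := congrArg (fun u : M => (u : Fin D.rank → Kˣ) ⟨i, hi⟩)
      (pow_card_eq_one' (x := (⟨_, h1⟩ : M)))
    simp only [SubmonoidClass.coe_pow, Pi.pow_apply, OneMemClass.coe_one, Pi.one_apply] at h2
    show (c i ^ (Nat.card M * m)) ^ ℓ = 1
    rw [← pow_mul, show Nat.card M * m * ℓ = ℓ * Nat.card M * m by ring, pow_mul, pow_mul, h2, one_pow]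
  have hgen : ∀ u : Kˣ, u ^ ℓ = 1 → ∃ n : ℤ, ζ ^ n = u := fun u hu => by
    have hprim : IsPrimitiveRoot ζ ℓ := hζ ▸ IsPrimitiveRoot.orderOf ζ
    haveI : NeZero ℓ := ⟨hl.ne_zero⟩
    obtain ⟨n, -, hn⟩ := (IsPrimitiveRoot.coe_units_iff.2 hprim).eq_pow_of_pow_eq_one
      (show (u : K) ^ ℓ = 1 by rw [← Units.val_pow_eq_pow_val, hu, Units.val_one])
    exact ⟨(n : ℤ), by rw [zpow_natCast]; exact Units.ext (by rw [Units.val_pow_eq_pow_val, hn])⟩
  choose a ha using fun i : Fin D.rank => hgen _ (hc' i i.2)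
  refine ⟨fun i => if hi : i < D.rank then a ⟨i, hi⟩ else 0, ?_⟩
  calc torusHom D K (fun i => ζ ^ (if hi : i < D.rank then a ⟨i, hi⟩ else 0))
      = torusHom D K c' := by
        refine Units.ext ?_
        rw [coe_torusHom, coe_torusHom]
        congr 1
        funext s
        exact Finset.prod_congr rfl fun i hi => by
          simp only [dif_pos (Finset.mem_range.1 hi), ha]
    _ = (torusHom D K c) ^ (Nat.card M * m) := map_pow _ _ _
    _ = torusHom D K c := by
        conv_lhs => rw [← Nat.mod_add_div (Nat.card M * m) ℓ, pow_add, pow_mul, hyl, one_pow, mul_one, hm,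
          pow_one]

end Cfsg.Agent.Lib.AltSections
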