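import Cfsg.Agent.Lib.AltSections.SectionLift
import Cfsg.Agent.Lib.AltSections.TorusSylow
import Cfsg.Agent.Lib.AltSections.ReeShort
import Cfsg.Agent.Lib.Twisted.Ree.F4Torus
import Cfsg.Agent.Lib.ChevField.Fixed

/-!
The alternating group of degree seven is not a section of a large Ree group.
-/

set_option autoImplicit false

namespace Cfsg.Agent.Lib.AltSections

open Cfsg.Lie Cfsg.Agent.Lib.Chev Cfsg.Agent.Lib.Twisted Cfsg.Agent.Lib.Twisted.ReeF Equiv

/-- A seven cycle and an element sending it to its square. -/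
theorem exists_seven_cycle : ∃ s t : ↥(alternatingGroup (Fin 7)),
    s ≠ 1 ∧ s ^ 7 = 1 ∧ t * s * t⁻¹ = s ^ 2 := by
  refine ⟨⟨swap 0 1 * swap 1 2 * swap 2 3 * swap 3 4 * swap 4 5 * swap 5 6,
      Perm.mem_alternatingGroup.2 (by decide +kernel)⟩,
    ⟨swap 1 2 * swap 2 4 * (swap 3 6 * swap 6 5), Perm.mem_alternatingGroup.2 (by decide +kernel)⟩,
    ?_, ?_, ?_⟩
  all_goals decide +kernel

theorem not_dvd_degs_seven : ¬ 7 ∣ F4.degs.prod := by decide

theorem eq_one_of_conj_sq_fixed {K : Type*} [Field K] [Fintype K] {m : ℕ}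
    (hK : Fintype.card K = 2 ^ (2 * m + 1)) (hm : m % 3 = 1)
    {σ : ↥(chevF4.group K) →* ↥(chevF4.group K)} (hσ : IsReeSigma (2 ^ m) σ) [CharP K 2]
    {z g : ↥(chevF4.group K)} (hz : σ z = z) (hz7 : z ^ 7 = 1) (hg : g * z * g⁻¹ = z ^ 2) : z = 1 := by
  classical
  haveI : Fact (Nat.Prime 7) := ⟨by norm_num⟩
  have hq : Fintype.card K % 7 = 1 := by
    rw [hK, show 2 * m + 1 = 3 * (2 * (m / 3) + 1) by omega, pow_mul, Nat.pow_mod]
    norm_num
  by_contra hz1
  have hzp : IsPGroup 7 (Subgroup.zpowers z) := IsPGroup.of_card (n := 1) (by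
    rw [Nat.card_zpowers, orderOf_eq_prime hz7 hz1, pow_one])
  obtain ⟨h, hconj⟩ := exists_conj_mem_diagonal rooted_F4 F4.smith_ok F4.chain_ok F4.poly_ok rfl hq
    not_dvd_degs_seven _ hzp
  set y := h * z * h⁻¹ with hy
  have hy7 : y ^ 7 = 1 := by rw [hy, conj_pow, hz7]; simp
  have hgy : (h * g * h⁻¹) * y * (h * g * h⁻¹)⁻¹ = y ^ 2 := by
    rw [hy, conj_pow, ← hg]; group
  have hsy : (σ h * h⁻¹) * y * (σ h * h⁻¹)⁻¹ = σ y := by
    rw [hy, map_mul, map_mul, hz, map_inv]; group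
  obtain ⟨ζ, hζ⟩ : ∃ ζ : Kˣ, orderOf ζ = 7 := exists_prime_orderOf_dvd_card 7 (by
    rw [Fintype.card_units]; omega)
  obtain ⟨a, ha⟩ := exists_coord_roots rooted_F4 F4.smith_ok
    (fun i => by
      rcases i with ⟨i, hi⟩
      have hi4 : i < 4 := hi
      interval_cases i <;> norm_num)
    (hconj z (Subgroup.mem_zpowers z))
    (by rw [← SubmonoidClass.coe_pow, hy7, OneMemClass.coe_one]) hζ
  set α : Fin 4 → ℤ := fun i => a i.val with hα
  let pw : (Fin 4 → ℤ) → ↥(chevF4.group K) := fun b =>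
    torusG rooted_F4 (quad (ζ ^ b 0) (ζ ^ b 1) (ζ ^ b 2) (ζ ^ b 3))
  let ρ : ZMod 7 → K := fun e => ((ζ ^ (e.val : ℤ) : Kˣ) : K)
  have hρ : ∀ n : ℤ, ρ (n : ZMod 7) = ((ζ ^ n : Kˣ) : K) := fun n => by
    show ((ζ ^ (((n : ZMod 7).val : ℕ) : ℤ) : Kˣ) : K) = _
    rw [ZMod.val_intCast, ← zpow_mod_orderOf ζ n, hζ]
  have hρinj : Function.Injective ρ := fun e e' h' => by
    have h1 : ζ ^ e.val = ζ ^ e'.val := by
      rw [← zpow_natCast, ← zpow_natCast]; exact Units.val_injective h'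
    exact ZMod.val_injective 7 (pow_injOn_Iio_orderOf (by simpa [hζ] using ZMod.val_lt e)
      (by simpa [hζ] using ZMod.val_lt e') h1)
  have hdiag : ∀ b : Fin 4 → ℤ, (pw b : GL chevF4.Idx K).1 = Matrix.diagonal fun x =>
      ρ (Sum.elim (fun _ => 0) (fun s => ∑ i : Fin 4, (b i : ZMod 7) * (chevF4.cartan i.val s.val : ℤ)) x) := by
    intro b
    rw [coe_torusG, coe_torusHom, ChevalleyDatum.charDiag]
    congr 1
    funext x
    rcases x with i | s
    · simp only [Sum.elim_inl]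
      rw [← Int.cast_zero, hρ, zpow_zero, Units.val_one]
    · simp only [Sum.elim_inr]
      rw [show (∑ i : Fin 4, (b i : ZMod 7) * (chevF4.cartan i.val s.val : ℤ)) =
          ((∑ i : Fin 4, b i * chevF4.cartan i.val s.val : ℤ) : ZMod 7) by push_cast; rfl, hρ,
        zpow_sum', torusFun, show chevF4.rank = 4 from rfl, Finset.prod_range]
      congr 1
      refine Finset.prod_congr rfl fun i _ => ?_
      obtain ⟨e0, e1, e2, e3⟩ := quad_vals (ζ ^ b 0) (ζ ^ b 1) (ζ ^ b 2) (ζ ^ b 3)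
      rw [zpow_mul]
      congr 1
      fin_cases i
      · exact e0
      · exact e1
      · exact e2
      · exact e3
  have hya : y = pw α := Subtype.ext (by rw [← ha, torusHom_quad, coe_torusG]; rfl)
  have hy2 : y ^ 2 = pw fun i => 2 * α i := by
    rw [hya, pow_two, ← torusG_mul, ← quad_mul]
    show torusG _ _ = torusG _ _
    simp only [← zpow_add, two_mul]
  have hσy : σ y = pw ![(2 ^ m : ℤ) * α 3, (2 ^ m : ℤ) * α 2, (2 ^ m * 2 : ℤ) * α 1, (2 ^ m * 2 : ℤ) * α 0] := by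
    rw [hya, map_quad hσ]
    show torusG _ _ = torusG _ _
    congr 1
    simp only [Matrix.cons_val_zero, Matrix.cons_val_one, Matrix.cons_val]
    congr 1 <;> rw [← zpow_natCast, ← zpow_mul, mul_comm] <;> push_cast <;> rfl
  have key : ∀ b b' : Fin 4 → ℤ, ∀ k : ↥(chevF4.group K), k * pw b * k⁻¹ = pw b' →
      Finset.univ.val.map (shortExp fun i => (b i : ZMod 7)) =
        Finset.univ.val.map (shortExp fun i => (b' i : ZMod 7)) := by
    intro b b' k hk
    have := short_map_eq_of_conj (hdiag b) (hdiag b') hk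
    refine Multiset.map_injective hρinj ?_
    rw [Multiset.map_map, Multiset.map_map]
    exact this
  have h2 := key α (fun i => 2 * α i) (h * g * h⁻¹) (by rw [← hya, ← hy2, hgy])
  have hs := key α ![(2 ^ m : ℤ) * α 3, (2 ^ m : ℤ) * α 2, (2 ^ m * 2 : ℤ) * α 1, (2 ^ m * 2 : ℤ) * α 0]
    (σ h * h⁻¹) (by rw [← hya, ← hσy, hsy])
  have h2m : ((2 : ZMod 7)) ^ m = 2 := by
    rw [← Nat.mod_add_div m 3, hm, pow_add, pow_mul, show (2 : ZMod 7) ^ 3 = 1 from rfl]
    simp
  have hzero := eq_zero_of_stable (fun i => (α i : ZMod 7))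
    (by simpa only [Int.cast_mul, Int.cast_ofNat] using h2)
    (by
      refine hs.trans (congrArg (fun a => Finset.univ.val.map (shortExp a)) ?_)
      funext i
      fin_cases i <;>
        simp only [Fin.zero_eta, Fin.mk_one, Fin.reduceFinMk, Matrix.cons_val_zero, Matrix.cons_val_one,
          Matrix.cons_val, Int.cast_mul, Int.cast_pow, Int.cast_ofNat, h2m] <;>
        rfl)
  apply hz1
  have : y = 1 := by
    rw [hya]
    refine Subtype.ext (Units.ext ?_)
    rw [hdiag, OneMemClass.coe_one, Units.val_one, ← Matrix.diagonal_one]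
    congr 1
    funext x
    rw [show (1 : K) = ρ ((0 : ℤ) : ZMod 7) by rw [hρ, zpow_zero, Units.val_one], Int.cast_zero]
    congr 1
    rcases x with i | s
    · rfl
    · exact Finset.sum_eq_zero fun i _ => by rw [hzero i, zero_mul]
  rwa [hy, conj_eq_one_iff] at this

theorem glMap_twistedF4_le {K L : Type*} [Field K] [Field L] (ι : K →+* L) (e e' : ℕ)
    (h : ∀ t : K, t ^ e' = t ^ e) :
    (twistedF4 K e).map (ChevField.glMap chevF4 ι) ≤ twistedF4 L e' := by
  unfold twistedF4 ChevalleyDatum.genSubgroup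
  rw [MonoidHom.map_closure, Subgroup.closure_le]
  rintro _ ⟨g, ⟨w, hw, hg⟩, rfl⟩
  refine Subgroup.subset_closure ⟨w.map fun p => (p.1, ι p.2), ?_, ?_⟩
  · have h1 : ∀ t : K, ι t ^ e' = ι (t ^ e) := fun t => by rw [← map_pow, h]
    have h2 : ∀ u : K, ι u ^ (2 * e') = ι (u ^ (2 * e)) := fun u => by
      rw [mul_comm 2 e', mul_comm 2 e, pow_mul, pow_mul, h1, ← map_pow]
    rcases hw with ⟨t, rfl | rfl⟩ | ⟨t, u, rfl | rfl⟩
    · exact Or.inl ⟨ι t, Or.inl (by simp [f4PairWord, h1])⟩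
    · exact Or.inl ⟨ι t, Or.inr (by simp [f4PairWord, h1])⟩
    · exact Or.inr ⟨ι t, ι u, Or.inl (by simp [b2ClassWord, h1, h2, pow_succ])⟩
    · exact Or.inr ⟨ι t, ι u, Or.inr (by simp [b2ClassWord, h1, h2, pow_succ])⟩
  · rw [ChevField.coe_glMap, hg, Twisted.wordMat_map]

theorem not_altSeven_section_ree {K : Type*} [Field K] [Fintype K] {m : ℕ}
    (hK : Fintype.card K = 2 ^ (2 * m + 1)) (H : Subgroup ↥(twistedF4 K (2 ^ m)))
    (f : H →* ↥(alternatingGroup (Fin 7))) (hf : Function.Surjective f) : False := by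
  classical
  haveI := charP_of_card hK
  haveI : Fact (Nat.Prime 2) := ⟨Nat.prime_two⟩
  haveI : Fact (Nat.Prime 7) := ⟨by norm_num⟩
  let L := FiniteField.Extension K 2 3
  letI : Fintype L := Fintype.ofFinite L
  have hL : Fintype.card L = 2 ^ (2 * (3 * m + 1) + 1) := by
    rw [← Nat.card_eq_fintype_card, FiniteField.natCard_extension, Nat.card_eq_fintype_card, hK, ← pow_mul]
    congr 1; ring
  let ι : K →+* L := algebraMap K L
  haveI := charP_of_card hL
  obtain ⟨σ, hσ⟩ := exists_sigma hL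
  have hle := le_fixSub hσ (pow_theta hL)
  have hth : ∀ t : K, t ^ (2 ^ (3 * m + 1)) = t ^ (2 ^ m) := fun t => by
    rw [show 3 * m + 1 = (2 * m + 1) + m by ring, pow_add, pow_mul, ← hK, FiniteField.pow_card]
  have hmem : ∀ x : H, ChevField.glMap chevF4 ι (x : GL chevF4.Idx K) ∈ twistedF4 L (2 ^ (3 * m + 1)) :=
    fun x => glMap_twistedF4_le ι _ _ hth (Subgroup.mem_map_of_mem _ (x : ↥(twistedF4 K (2 ^ m))).2)
  let j : H →* ↥(chevF4.group L) :=
    ((ChevField.glMap chevF4 ι).comp ((twistedF4 K (2 ^ m)).subtype.comp H.subtype)).codRestrict _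
      fun x => fixSub_le σ (hle (hmem x))
  have hj : Function.Injective j := fun x y e =>
    Subtype.ext (Subtype.ext (ChevField.glMap_injective ι (congrArg Subtype.val e)))
  have hq : Fintype.card L % 7 = 1 := by
    rw [hL, show 2 * (3 * m + 1) + 1 = 3 * (2 * m + 1) by ring, pow_mul, Nat.pow_mod]
    norm_num
  obtain ⟨s₀, t₀, hs, hs7, hst⟩ := exists_seven_cycle
  obtain ⟨s, rfl⟩ := hf s₀
  obtain ⟨t, rfl⟩ := hf t₀
  obtain ⟨z, g, hz, hz7, hg⟩ := exists_conj_pow_lift f 7 2 (by norm_num) s t hs hs7 hst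
    (fun S hS a ha b hb => hj (by
      rw [map_mul, map_mul]
      exact commute_of_isPGroup rooted_F4 F4.smith_ok F4.chain_ok F4.poly_ok rfl hq not_dvd_degs_seven
        (S.map j) (hS.map j) _ (Subgroup.mem_map_of_mem _ ha) _ (Subgroup.mem_map_of_mem _ hb)))
  refine hz (hj ((eq_one_of_conj_sq_fixed hL (by omega) hσ (z := j z) (g := j g) ?_ ?_ ?_).trans (map_one j).symm))
  · exact mem_fixSub.1 (hle (hmem z))
  · rw [← map_pow, hz7, map_one]
  · rw [← map_inv, ← map_mul, ← map_mul, hg, map_pow]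

end Cfsg.Agent.Lib.AltSections
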