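import Mathlib

/-!
Alternating sections: passing to smaller degrees, and lifting an element which is conjugate to one of its
powers through a homomorphism with commutative Sylow subgroups.
-/

set_option autoImplicit false

namespace Cfsg.Agent.Lib.AltSections

/-- A section isomorphic to an alternating group gives sections for all smaller degrees. -/
theorem exists_surjective_of_le {G : Type*} [Group G] (H : Subgroup G) {r m : ℕ} (hmr : m ≤ r)
    (f : H →* ↥(alternatingGroup (Fin r))) (hf : Function.Surjective f) :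
    ∃ (H' : Subgroup G) (f' : H' →* ↥(alternatingGroup (Fin m))), Function.Surjective f' := by
  classical
  let ψ : ↥(alternatingGroup (Fin m)) →* ↥(alternatingGroup (Fin r)) :=
    ((Equiv.Perm.viaEmbeddingHom (Fin.castLEEmb hmr)).comp (alternatingGroup (Fin m)).subtype).codRestrict
      (alternatingGroup (Fin r)) fun x => by
        rw [Equiv.Perm.mem_alternatingGroup]
        show Equiv.Perm.sign (Equiv.Perm.viaEmbedding (x : Equiv.Perm (Fin m)) (Fin.castLEEmb hmr)) = 1
        rw [Equiv.Perm.viaEmbedding, Equiv.Perm.sign_extendDomain]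
        exact Equiv.Perm.mem_alternatingGroup.1 x.2
  have hψ : Function.Injective ψ := fun x y e =>
    Subtype.ext (Equiv.Perm.viaEmbeddingHom_injective _ (congrArg Subtype.val e))
  let e := MonoidHom.ofInjective hψ
  let A : Subgroup H := ψ.range.comap f
  let g : A →* ψ.range := (f.comp A.subtype).codRestrict _ fun x => x.2
  have hg : Function.Surjective g := by
    rintro ⟨y, hy⟩
    obtain ⟨x, rfl⟩ := hf y
    exact ⟨⟨x, hy⟩, rfl⟩
  let i := A.equivMapOfInjective H.subtype H.subtype_injective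
  exact ⟨A.map H.subtype, (e.symm.toMonoidHom.comp g).comp i.symm.toMonoidHom,
    (e.symm.surjective.comp hg).comp i.symm.surjective⟩

/-- An element of prime order `ℓ` which an element of the group sends to its `k`-th power can be lifted
through a homomorphism as soon as the `ℓ`-subgroups are commutative. -/
theorem exists_conj_pow_lift {Γ Q : Type*} [Group Γ] [Finite Γ] [Group Q] (f : Γ →* Q) (ℓ k : ℕ)
    [Fact ℓ.Prime] (hk : ¬ ℓ ∣ k) (s t : Γ) (hs : f s ≠ 1) (hsl : f s ^ ℓ = 1)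
    (hst : f t * f s * (f t)⁻¹ = f s ^ k)
    (hab : ∀ S : Subgroup Γ, IsPGroup ℓ S → ∀ a ∈ S, ∀ b ∈ S, a * b = b * a) :
    ∃ z g : Γ, z ≠ 1 ∧ z ^ ℓ = 1 ∧ g * z * g⁻¹ = z ^ k := by
  classical
  have hl : ℓ.Prime := Fact.out
  have hord : orderOf (f s) = ℓ := orderOf_eq_prime hsl hs
  set Z := Subgroup.zpowers (f s) with hZ
  let N : Subgroup Γ := (Subgroup.normalizer (Z : Set Q)).comap f
  let P₀ : Subgroup N := Z.comap (f.comp N.subtype)
  haveI : P₀.Normal := ⟨fun x hx g => by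
    show f ((g : Γ) * x * (g : Γ)⁻¹) ∈ Z
    rw [map_mul, map_mul, map_inv]
    exact (Subgroup.mem_normalizer_iff.1 g.2 _).1 hx⟩
  have hsN : s ∈ N := Subgroup.le_normalizer (Subgroup.mem_zpowers (f s))
  have htN : t ∈ N := by
    have h1 : Z.map (MulAut.conj (f t)).toMonoidHom = Z := by
      rw [hZ, MonoidHom.map_zpowers]
      show Subgroup.zpowers (f t * f s * (f t)⁻¹) = _
      rw [hst]
      refine le_antisymm (Subgroup.zpowers_le.2 (pow_mem (Subgroup.mem_zpowers _) k))
        (Subgroup.zpowers_le.2 ?_)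
      have hc : k.Coprime (orderOf (f s)) := by
        rw [hord]; exact (hl.coprime_iff_not_dvd.2 hk).symm
      obtain ⟨j, hj⟩ := exists_pow_eq_self_of_coprime hc
      exact ⟨(j : ℤ), by show (f s ^ k) ^ (j : ℤ) = f s; rw [zpow_natCast, hj]⟩
    refine Subgroup.mem_normalizer_iff.2 fun x => ?_
    constructor
    · intro hx
      rw [← h1]
      exact ⟨x, hx, rfl⟩
    · intro hx
      rw [← h1] at hx
      obtain ⟨y, hy, e⟩ := hx
      have : y = x := mul_left_cancel (mul_right_cancel (show f t * y * (f t)⁻¹ = f t * x * (f t)⁻¹ from e))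
      rwa [← this]
  obtain ⟨S⟩ : Nonempty (Sylow ℓ P₀) := inferInstance
  have hfr := Sylow.normalizer_sup_eq_top S
  set S₀ : Subgroup N := (S : Subgroup P₀).map P₀.subtype with hS₀
  have htop : (⟨t, htN⟩ : N) ∈ (↑(Subgroup.normalizer (S₀ : Set N) ⊔ P₀) : Set N) := by
    rw [hfr]; trivial
  rw [Subgroup.mul_normal] at htop
  obtain ⟨n, hn, x, hx, hnx⟩ := htop
  have hn2 : f (n : Γ) * f s * (f (n : Γ))⁻¹ = f s ^ k := by
    have hxZ : f (x : Γ) ∈ Z := hx
    obtain ⟨i, hi⟩ := hxZ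
    have e : f (n : Γ) * f (x : Γ) = f t := by
      rw [← map_mul]; exact congrArg (fun u : N => f (u : Γ)) hnx
    rw [← hst, ← e, show f (x : Γ) = f s ^ i from hi.symm]
    group
  have hSp : IsPGroup ℓ S₀ := S.2.map _
  have habS : ∀ a ∈ S₀, ∀ b ∈ S₀, a * b = b * a := fun a ha b hb =>
    Subtype.ext (hab (S₀.map N.subtype) (hSp.map _) _ (Subgroup.mem_map_of_mem _ ha) _
      (Subgroup.mem_map_of_mem _ hb))
  have hnS : ∀ a ∈ S₀, n * a * n⁻¹ ∈ S₀ := fun a ha => (Subgroup.mem_normalizer_iff.1 hn a).1 ha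
  let θ : S₀ →* S₀ :=
    { toFun := fun a => ⟨n * a * n⁻¹ * ((a : N) ^ k)⁻¹, mul_mem (hnS _ a.2) (inv_mem (pow_mem a.2 k))⟩
      map_one' := Subtype.ext (by simp)
      map_mul' := fun a b => Subtype.ext (by
        show n * ((a : N) * b) * n⁻¹ * (((a : N) * b) ^ k)⁻¹ =
          n * a * n⁻¹ * ((a : N) ^ k)⁻¹ * (n * b * n⁻¹ * ((b : N) ^ k)⁻¹)
        rw [(show Commute (a : N) b from habS _ a.2 _ b.2).mul_pow, _root_.mul_inv_rev,
          show n * ((a : N) * b) * n⁻¹ = n * a * n⁻¹ * (n * b * n⁻¹) by group]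
        rw [habS _ (inv_mem (pow_mem b.2 k)) _ (inv_mem (pow_mem a.2 k)),
          mul_assoc (n * a * n⁻¹), mul_assoc (n * a * n⁻¹), ← mul_assoc (n * b * n⁻¹) _ (_⁻¹),
          habS _ (hnS _ b.2) _ (inv_mem (pow_mem a.2 k))]
        simp only [mul_assoc]) }
  obtain ⟨a, haS, hfa⟩ : ∃ a ∈ S₀, f (a : Γ) = f s := by
    let g : P₀ →* Z := ((f.comp N.subtype).comp P₀.subtype).codRestrict Z fun u => u.2
    have hg : Function.Surjective g := by
      rintro ⟨z, i, rfl⟩
      exact ⟨⟨⟨s ^ i, zpow_mem hsN i⟩, ⟨i, (map_zpow f s i).symm⟩⟩, Subtype.ext (map_zpow f s i)⟩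
    haveI : Finite Z := Finite.of_surjective g hg
    have hgS : (S : Subgroup P₀).map g = ⊤ := by
      refine Subgroup.eq_top_of_card_eq _ ?_
      rw [show ((S : Subgroup P₀).map g) = ((S.mapSurjective hg : Sylow ℓ Z) : Subgroup Z) from rfl,
        (S.mapSurjective hg).card_eq_multiplicity, Nat.card_zpowers, hord,
        Nat.Prime.factorization_self hl, pow_one]
    have : (⟨f s, Subgroup.mem_zpowers _⟩ : Z) ∈ (S : Subgroup P₀).map g := by rw [hgS]; trivial
    obtain ⟨u, hu, hue⟩ := this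
    exact ⟨(u : N), Subgroup.mem_map_of_mem _ hu, congrArg Subtype.val hue⟩
  have hns : ¬ Function.Surjective θ := fun hsur => by
    obtain ⟨b, hb⟩ := hsur ⟨a, haS⟩
    apply hs
    rw [← hfa, show a = n * (b : N) * n⁻¹ * ((b : N) ^ k)⁻¹ from (congrArg Subtype.val hb).symm]
    obtain ⟨c, -, hc⟩ := b.2
    have hbZ : f ((b : N) : Γ) ∈ Z := by rw [← hc]; exact c.2
    obtain ⟨i, hi⟩ := hbZ
    have hi' : f ((b : N) : Γ) = f s ^ i := hi.symm
    simp only [Subgroup.coe_mul, InvMemClass.coe_inv, SubmonoidClass.coe_pow, map_mul, map_inv, map_pow, hi']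
    rw [← conj_zpow, hn2, ← zpow_natCast, ← zpow_natCast, ← zpow_mul, ← zpow_mul, mul_comm i,
      mul_inv_cancel]
  have hni : θ.ker ≠ ⊥ := fun hk =>
    hns (Finite.injective_iff_surjective.1 ((MonoidHom.ker_eq_bot_iff θ).1 hk))
  obtain ⟨j, hj0, hj⟩ := ((hSp.to_subgroup θ.ker).nontrivial_iff_card).1
    ((Subgroup.nontrivial_iff_ne_bot _).2 hni)
  obtain ⟨z, hz⟩ := exists_prime_orderOf_dvd_card' (G := θ.ker) ℓ (hj ▸ dvd_pow_self ℓ hj0.ne')
  refine ⟨(((z : S₀) : N) : Γ), (n : Γ), ?_, ?_, ?_⟩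
  · intro h1
    rw [show z = 1 from Subtype.ext (Subtype.ext (Subtype.ext h1)), orderOf_one] at hz
    exact hl.one_lt.ne hz
  · have := congrArg (fun u : θ.ker => (((u : S₀) : N) : Γ)) (hz ▸ pow_orderOf_eq_one z)
    simpa using this
  · have := congrArg (fun u : S₀ => ((u : N) : Γ)) (MonoidHom.mem_ker.1 z.2)
    simp only [θ, MonoidHom.coe_mk, OneHom.coe_mk, Subgroup.coe_mul, InvMemClass.coe_inv,
      SubmonoidClass.coe_pow, OneMemClass.coe_one] at this
    exact mul_inv_eq_one.1 this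

end Cfsg.Agent.Lib.AltSections
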