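import Cfsg.Agent.Lib.AltSections.SectionLift
import Cfsg.Agent.Lib.AltSections.TorusSylow
import Cfsg.Agent.Lib.G2Sections.DiagSimilar
import Cfsg.Agent.Lib.TrialityTorus.Member
import Cfsg.Agent.Lib.Twisted.Core.D4Group
import Cfsg.Agent.Lib.Chev.PoincareD4

/-!
Outside characteristic five the alternating group of degree seven is not a section of a triality twisted
group.
-/

set_option autoImplicit false

namespace Cfsg.Agent.Lib.AltSections

open Cfsg.Lie Cfsg.Agent.Lib.Chev Cfsg.Agent.Lib.TrialityTorus Equiv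

theorem pow_eq_self_of_mod {G : Type*} [Group G] {u : G} {n : ℕ} (hu : orderOf u = 5) (hn : n % 5 = 1) :
    u ^ n = u := by
  rw [← pow_mod_orderOf, hu, hn, pow_one]

/-- Conjugating an `ℓ`-subgroup into a subgroup of index prime to `ℓ`. -/
theorem exists_conj_mem_of_not_dvd_index {G : Type*} [Group G] [Finite G] {ℓ : ℕ} [Fact ℓ.Prime]
    (T : Subgroup G) (hT : ¬ ℓ ∣ T.index) (S : Subgroup G) (hS : IsPGroup ℓ S) :
    ∃ h : G, ∀ x ∈ S, h * x * h⁻¹ ∈ T := by
  have hl : ℓ.Prime := Fact.out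
  obtain ⟨P⟩ : Nonempty (Sylow ℓ T) := inferInstance
  let P₀ : Subgroup G := (P : Subgroup T).map T.subtype
  have hidx : ¬ ℓ ∣ P₀.index := by
    rw [Subgroup.index_map_subtype, hl.dvd_mul]
    exact not_or.2 ⟨P.not_dvd_index, hT⟩
  let Q : Sylow ℓ G := (P.2.map _ : IsPGroup ℓ P₀).toSylow hidx
  obtain ⟨R, hR⟩ := hS.exists_le_sylow
  obtain ⟨h, hh⟩ := MulAction.exists_smul_eq G R Q
  refine ⟨h, fun x hx => ?_⟩
  have hmem : h * x * h⁻¹ ∈ (Q : Subgroup G) := by
    rw [← hh, Sylow.coe_subgroup_smul]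
    exact Subgroup.smul_mem_pointwise_smul x (MulAut.conj h) _ (hR hx)
  obtain ⟨y, -, hy⟩ := hmem
  rw [← hy]
  exact y.2

/-- The exponents of a torus element on the adjoint module. -/
def expD4 (a b c d : ZMod 5) : chevD4.Idx → ZMod 5 :=
  Sum.elim (fun _ => 0) fun s => a * (chevD4.cartan 0 s.val : ℤ) + b * (chevD4.cartan 1 s.val : ℤ) +
    c * (chevD4.cartan 2 s.val : ℤ) + d * (chevD4.cartan 3 s.val : ℤ)

/-- The Cartan integers modulo five, coordinate by coordinate. -/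
def cartVec5 (i : ℕ) : List ℕ := (List.range 24).map fun s => ((chevD4.cartan i s) % 5).toNat

/-- A numerical code of the multiset of exponents. -/
def keyD4 (k a b c d : ℕ) : ℕ :=
  ((List.range 24).map fun s => 64 ^ ((k * (a * (cartVec5 0).getD s 0 + b * (cartVec5 1).getD s 0 +
    c * (cartVec5 2).getD s 0 + d * (cartVec5 3).getD s 0)) % 5)).sum

/-- The exponent at one root. -/
def natExpD4 (a b c d s : ℕ) : ℕ :=
  (a * (cartVec5 0).getD s 0 + b * (cartVec5 1).getD s 0 + c * (cartVec5 2).getD s 0 + d * (cartVec5 3).getD s 0) % 5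

/-- No exponents fixed by triality are stable under doubling except trivial ones. -/
def chkFive : Bool :=
  allN 5 fun a => allN 5 fun b => allN 5 fun c => allN 5 fun d =>
    !(allN 24 fun s => Nat.beq (natExpD4 a b c d s) (natExpD4 d b a c s)) ||
    !(Nat.beq (keyD4 1 a b c d) (keyD4 2 a b c d)) || allN 24 fun s => Nat.beq (natExpD4 a b c d s) 0

theorem chkFive_ok : chkFive = true := by decide +kernel

theorem cartVec5_eq : ∀ i < 4, ∀ s : Fin 24,
    (((cartVec5 i).getD s.val 0 : ℕ) : ZMod 5) = ((chevD4.cartan i s.val : ℤ) : ZMod 5) := by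
  decide +kernel

theorem expD4_inr (a b c d : ZMod 5) (s : Fin chevD4.nroots) :
    expD4 a b c d (Sum.inr s) = (natExpD4 a.val b.val c.val d.val s.val : ℕ) := by
  simp only [expD4, Sum.elim_inr, natExpD4, ZMod.natCast_mod, Nat.cast_add, Nat.cast_mul, ZMod.natCast_zmod_val]
  rw [cartVec5_eq 0 (by norm_num) s, cartVec5_eq 1 (by norm_num) s, cartVec5_eq 2 (by norm_num) s,
    cartVec5_eq 3 (by norm_num) s]

theorem keyD4_eq (k : ℕ) (a b c d : ZMod 5) :
    keyD4 k a.val b.val c.val d.val + 4 =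
      ((Finset.univ.val.map fun x => (k : ZMod 5) * expD4 a b c d x).map fun e => 64 ^ e.val).sum := by
  rw [Multiset.map_map, ← Finset.sum_eq_multiset_sum, Fintype.sum_sum_type]
  have h1 : (∑ i : Fin chevD4.rank,
      ((fun e : ZMod 5 => 64 ^ e.val) ∘ fun x => (k : ZMod 5) * expD4 a b c d x) (Sum.inl i)) = 4 := by
    rw [Finset.sum_eq_card_nsmul (b := 1) fun i _ => by
      show 64 ^ ((k : ZMod 5) * 0).val = 1
      rw [mul_zero, ZMod.val_zero, pow_zero]]
    simp [show chevD4.rank = 4 from rfl]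
  rw [h1, add_comm 4]
  refine congrArg (· + 4) ?_
  unfold keyD4
  rw [← List.sum_toFinset _ List.nodup_range, List.toFinset_range,
    show Finset.range 24 = Finset.range chevD4.nroots from rfl, Finset.sum_range]
  refine Finset.sum_congr rfl fun s _ => ?_
  simp only [Function.comp_apply]
  rw [expD4_inr, natExpD4, ZMod.natCast_mod, ← Nat.cast_mul, ZMod.val_natCast]

theorem exp_eq_zero_of_stable {a b c d : ZMod 5}
    (hfix : ∀ s, expD4 a b c d (Sum.inr s) = expD4 d b a c (Sum.inr s))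
    (h2 : Finset.univ.val.map (fun x => (2 : ZMod 5) * expD4 a b c d x) =
      Finset.univ.val.map (expD4 a b c d)) : ∀ x, expD4 a b c d x = 0 := by
  have hk : keyD4 1 a.val b.val c.val d.val = keyD4 2 a.val b.val c.val d.val := by
    apply Nat.add_right_cancel (m := 4)
    rw [keyD4_eq, keyD4_eq]
    simp only [Nat.cast_one, one_mul, Nat.cast_ofNat, h2]
  have hc := chkFive_ok
  simp only [chkFive, allN_iff, Bool.or_eq_true, Bool.not_eq_true', Nat.beq_eq] at hc
  rintro (i | s)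
  · rfl
  · rcases hc _ (ZMod.val_lt a) _ (ZMod.val_lt b) _ (ZMod.val_lt c) _ (ZMod.val_lt d) with (h | h) | h
    · refine absurd ((allN_iff).2 fun s hs => ?_) (Bool.eq_false_iff.1 h)
      have := congrArg ZMod.val (hfix ⟨s, hs⟩)
      rw [expD4_inr, expD4_inr, ZMod.val_natCast, ZMod.val_natCast] at this
      simp only [natExpD4, Nat.mod_mod] at this
      exact Nat.beq_eq.mpr (by simpa only [natExpD4] using this)
    · rw [hk, Nat.beq_refl] at h; exact absurd h (by decide)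
    · rw [expD4_inr, h s.val s.2, Nat.cast_zero]

theorem not_dvd_index_twisted {L : Type*} [Field L] [Fintype L] {Q : ℕ} (hQ : IsPrimePow Q)
    (hL : Fintype.card L = Q ^ 3) (h5 : Q % 5 = 1) :
    ¬ 5 ∣ ((chevD4.diagonalSubgroup L).subgroupOf (twistedD4 L Q)).index := by
  set T := (chevD4.diagonalSubgroup L).subgroupOf (twistedD4 L Q)
  have hT : Nat.card T = (Q - 1) * (Q ^ 3 - 1) := by
    rw [← Twisted.Core.d4_card_diag hQ hL,
      ← Nat.card_congr (Subgroup.subgroupOfEquivOfLe (inf_le_right : chevD4.diagonalSubgroup L ⊓ _ ≤ _)).toEquiv,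
      Subgroup.inf_subgroupOf_right]
  have h := T.card_mul_index
  obtain ⟨n, rfl⟩ : ∃ n, Q = n + 1 := ⟨Q - 1, by have := hQ.one_lt; omega⟩
  have e2 : (n + 1) ^ 2 - 1 = n * ((n + 1) + 1) := Nat.sub_eq_of_eq_add (by ring)
  have e3 : (n + 1) ^ 3 - 1 = n * ((n + 1) ^ 2 + (n + 1) + 1) := Nat.sub_eq_of_eq_add (by ring)
  have e6 : (n + 1) ^ 6 - 1 = n * ((n + 1) ^ 2 + (n + 1) + 1) * ((n + 1) ^ 3 + 1) :=
    Nat.sub_eq_of_eq_add (by ring)
  rw [hT, Twisted.Core.d4_card hQ hL, Nat.add_sub_cancel, e2, e3, e6] at h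
  have hn : 0 < n := by have := hQ.one_lt; omega
  have hpos : 0 < n * (n * ((n + 1) ^ 2 + (n + 1) + 1)) := by positivity
  have hidx : T.index = (n + 1) ^ 12 * ((n + 1) + 1) * ((n + 1) ^ 3 + 1) * ((n + 1) ^ 8 + (n + 1) ^ 4 + 1) :=
    Nat.eq_of_mul_eq_mul_left hpos (h.trans (by ring))
  rw [hidx]
  intro hd
  have := Nat.mod_eq_zero_of_dvd hd
  simp [Nat.mul_mod, Nat.add_mod, Nat.pow_mod, h5] at this

theorem not_altSeven_section_triality {K : Type*} [Field K] [Fintype K] (p q : ℕ) [Fact p.Prime] [CharP K p]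
    (hqp : IsPrimePow q) (h5 : ¬ 5 ∣ q) (hK : Fintype.card K = q ^ 3) (H : Subgroup ↥(twistedD4 K q))
    (f : H →* ↥(alternatingGroup (Fin 7))) (hf : Function.Surjective f) : False := by
  classical
  haveI : Fact (Nat.Prime 5) := ⟨by norm_num⟩
  let L := FiniteField.Extension K p 4
  letI : Fintype L := Fintype.ofFinite L
  have hL : Fintype.card L = (q ^ 4) ^ 3 := by
    rw [← Nat.card_eq_fintype_card, FiniteField.natCard_extension, Nat.card_eq_fintype_card, hK, ← pow_mul,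
      ← pow_mul]
  have hQ : IsPrimePow (q ^ 4) := hqp.pow (by norm_num)
  have h5q : q ^ 4 % 5 = 1 := by
    have h := h5
    rw [Nat.dvd_iff_mod_eq_zero] at h
    have hlt : q % 5 < 5 := Nat.mod_lt _ (by norm_num)
    rw [Nat.pow_mod]
    generalize q % 5 = r at h hlt ⊢
    interval_cases r <;> first | omega | norm_num
  let ι : K →+* L := algebraMap K L
  -- the embedding into the twisted group over the extension
  have hfr : ∀ t : K, t ^ (q ^ 3) = t := fun t => by rw [← hK, FiniteField.pow_card]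
  have h4 : ∀ t : K, t ^ (q ^ 4) = t ^ q := fun t => by
    rw [show q ^ 4 = q ^ 3 * q by ring, pow_mul, hfr]
  have h8 : ∀ t : K, t ^ ((q ^ 4) ^ 2) = t ^ (q ^ 2) := fun t => by
    rw [show (q ^ 4) ^ 2 = q ^ 3 * (q ^ 3 * q ^ 2) by ring, pow_mul, hfr, pow_mul, hfr]
  have hle : (twistedD4 K q).map (ChevField.glMap chevD4 ι) ≤ twistedD4 L (q ^ 4) := by
    unfold twistedD4 ChevalleyDatum.genSubgroup
    rw [MonoidHom.map_closure, Subgroup.closure_le]
    rintro _ ⟨g, ⟨w, hw, hg⟩, rfl⟩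
    refine Subgroup.subset_closure ⟨w.map fun x => (x.1, ι x.2), ?_, ?_⟩
    · rcases hw with ⟨t, ht, r, hr, rfl⟩ | ⟨t, rs, hrs, rfl⟩
      · exact Or.inl ⟨ι t, by rw [← map_pow, h4, ht], r, hr, rfl⟩
      · exact Or.inr ⟨ι t, rs, hrs, by simp [← map_pow, h4, h8]⟩
    · rw [ChevField.coe_glMap, hg, Twisted.wordMat_map]
  let j : H →* ↥(twistedD4 L (q ^ 4)) :=
    ((ChevField.glMap chevD4 ι).comp ((twistedD4 K q).subtype.comp H.subtype)).codRestrict _
      fun x => hle (Subgroup.mem_map_of_mem _ (x : ↥(twistedD4 K q)).2)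
  have hj : Function.Injective j := fun x y e =>
    Subtype.ext (Subtype.ext (ChevField.glMap_injective ι (congrArg Subtype.val e)))
  have hidx := not_dvd_index_twisted hQ hL h5q
  obtain ⟨s₀, t₀, hs, hs5, hst⟩ : ∃ s t : ↥(alternatingGroup (Fin 7)),
      s ≠ 1 ∧ s ^ 5 = 1 ∧ t * s * t⁻¹ = s ^ 2 := by
    refine ⟨⟨swap 0 1 * swap 1 2 * swap 2 3 * swap 3 4, Perm.mem_alternatingGroup.2 (by decide +kernel)⟩,
      ⟨swap 1 2 * swap 2 4 * swap 4 3 * swap 5 6, Perm.mem_alternatingGroup.2 (by decide +kernel)⟩, ?_, ?_, ?_⟩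
    all_goals decide +kernel
  obtain ⟨s, rfl⟩ := hf s₀
  obtain ⟨t, rfl⟩ := hf t₀
  have hh := Triality.rooted_four
  obtain ⟨z, g, hz, hz5, hg⟩ := exists_conj_pow_lift f 5 2 (by norm_num) s t hs hs5 hst
    (fun S hS x hx y hy => hj (by
      rw [map_mul, map_mul]
      obtain ⟨h, hh'⟩ := exists_conj_mem_of_not_dvd_index _ hidx (S.map j) (hS.map j)
      have e : (h * j x * h⁻¹) * (h * j y * h⁻¹) = (h * j y * h⁻¹) * (h * j x * h⁻¹) :=
        Subtype.ext (hh.diagonal_commute (hh' _ (Subgroup.mem_map_of_mem _ hx))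
          (hh' _ (Subgroup.mem_map_of_mem _ hy)))
      simp only [mul_assoc, inv_mul_cancel_left] at e
      exact mul_right_cancel (b := h⁻¹) (by simpa only [mul_assoc] using mul_left_cancel e)))
  set Z := j z with hZ
  have hZ5 : Z ^ 5 = 1 := by rw [hZ, ← map_pow, hz5, map_one]
  have hZ1 : Z ≠ 1 := fun e => hz (hj (e.trans (map_one j).symm))
  obtain ⟨h, hconj⟩ := exists_conj_mem_of_not_dvd_index _ hidx (Subgroup.zpowers Z)
    (IsPGroup.of_card (n := 1) (by rw [Nat.card_zpowers, orderOf_eq_prime hZ5 hZ1, pow_one]))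
  set y := h * Z * h⁻¹ with hy
  have hy5 : y ^ 5 = 1 := by rw [hy, conj_pow, hZ5]; simp
  have hgy : (h * j g * h⁻¹) * y * (h * j g * h⁻¹)⁻¹ = y ^ 2 := by
    rw [hy, conj_pow, hZ, ← map_pow, ← hg, map_mul, map_mul, map_inv]; group
  have hQ5 : Fintype.card L % 5 = 1 := by rw [hL, Nat.pow_mod, h5q]
  obtain ⟨ζ, hζ⟩ : ∃ ζ : Lˣ, orderOf ζ = 5 := exists_prime_orderOf_dvd_card 5 (by
    rw [Fintype.card_units]; omega)
  obtain ⟨c, hc⟩ := exists_coord_roots hh D4.smith_ok (ℓ := 5)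
    (fun i => by
      rcases i with ⟨i, hi⟩
      have hi4 : i < 4 := hi
      interval_cases i <;> norm_num)
    (y := (y : GL chevD4.Idx L)) (hconj Z (Subgroup.mem_zpowers Z))
    (by rw [← SubmonoidClass.coe_pow, hy5, OneMemClass.coe_one]) hζ
  let ρ : ZMod 5 → L := fun e => ((ζ ^ (e.val : ℤ) : Lˣ) : L)
  have hρ : ∀ n : ℤ, ρ (n : ZMod 5) = ((ζ ^ n : Lˣ) : L) := fun n => by
    show ((ζ ^ (((n : ZMod 5).val : ℕ) : ℤ) : Lˣ) : L) = _
    rw [ZMod.val_intCast, ← zpow_mod_orderOf ζ n, hζ]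
  have hρinj : Function.Injective ρ := fun e e' h' => by
    have h1 : ζ ^ e.val = ζ ^ e'.val := by
      rw [← zpow_natCast, ← zpow_natCast]; exact Units.val_injective h'
    exact ZMod.val_injective 5 (pow_injOn_Iio_orderOf (by simpa [hζ] using ZMod.val_lt e)
      (by simpa [hζ] using ZMod.val_lt e') h1)
  have hdiag : ∀ c : ℕ → ℤ, (torusHom chevD4 L (fun i => ζ ^ c i)).1 =
      Matrix.diagonal fun x => ρ (expD4 (c 0) (c 1) (c 2) (c 3) x) := by
    intro c
    rw [coe_torusHom, ChevalleyDatum.charDiag]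
    congr 1
    funext x
    rcases x with i | s
    · simp only [Sum.elim_inl, expD4]
      rw [← Int.cast_zero, hρ, zpow_zero, Units.val_one]
    · simp only [Sum.elim_inr, expD4]
      rw [show ((c 0 : ZMod 5) * (chevD4.cartan 0 s.val : ℤ) + (c 1 : ZMod 5) * (chevD4.cartan 1 s.val : ℤ) +
            (c 2 : ZMod 5) * (chevD4.cartan 2 s.val : ℤ) + (c 3 : ZMod 5) * (chevD4.cartan 3 s.val : ℤ)) =
          ((c 0 * chevD4.cartan 0 s.val + c 1 * chevD4.cartan 1 s.val + c 2 * chevD4.cartan 2 s.val +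
            c 3 * chevD4.cartan 3 s.val : ℤ) : ZMod 5) by push_cast; rfl, hρ, zpow_add, zpow_add, zpow_add,
        torusFun, show chevD4.rank = 4 from rfl, Finset.prod_range]
      simp [Fin.prod_univ_four, zpow_mul]
  -- the frobenius twist fixes the element
  obtain ⟨φ, hφ, -⟩ := Twisted.Core.d4_powAut hQ hL
  have hfix := (fixed_of_mem (q ^ 4) hL φ.toRingHom hφ y.2).2
  have hyv : (y : GL chevD4.Idx L).1 = Matrix.diagonal fun x => ρ (expD4 (c 0) (c 1) (c 2) (c 3) x) := by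
    rw [← hdiag, hc]
  have hfix' : ∀ s, expD4 (c 0) (c 1) (c 2) (c 3) (Sum.inr s) = expD4 (c 3) (c 1) (c 0) (c 2) (Sum.inr s) := by
    intro s
    rw [← hc, twistMap_torusHom] at hfix
    have e : torusHom chevD4 L (fun i => ζ ^ c (Twisted.d4Graph.node (Twisted.d4Graph.node i))) =
        torusHom chevD4 L (fun i => ζ ^ c i) := by
      rw [← hfix]
      congr 1
      funext i
      refine Units.ext ?_
      show ((ζ ^ _ : Lˣ) : L) = φ ((ζ ^ _ : Lˣ) : L)
      rw [hφ, ← Units.val_pow_eq_pow_val]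
      congr 1
      rw [← zpow_natCast (ζ ^ _), ← zpow_mul, mul_comm, zpow_mul, zpow_natCast, pow_eq_self_of_mod hζ h5q]
    have e' := congrArg (fun M : GL chevD4.Idx L => M.1 (Sum.inr s) (Sum.inr s)) e
    simp only [hdiag, Matrix.diagonal_apply_eq] at e'
    exact (hρinj e').symm
  have h2 : Finset.univ.val.map (fun x => (2 : ZMod 5) * expD4 (c 0) (c 1) (c 2) (c 3) x) =
      Finset.univ.val.map (expD4 (c 0) (c 1) (c 2) (c 3)) := by
    have hy2 : ((y ^ 2 : ↥(twistedD4 L (q ^ 4))) : GL chevD4.Idx L).1 =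
        Matrix.diagonal fun x => ρ (2 * expD4 (c 0) (c 1) (c 2) (c 3) x) := by
      rw [pow_two, Subgroup.coe_mul, Units.val_mul, hyv, Matrix.diagonal_mul_diagonal]
      congr 1
      funext x
      obtain ⟨n, hn⟩ := ZMod.intCast_surjective (expD4 (c 0) (c 1) (c 2) (c 3) x)
      rw [← hn, show (2 : ZMod 5) * (n : ZMod 5) = ((2 * n : ℤ) : ZMod 5) by push_cast; rfl, hρ, hρ,
        ← Units.val_mul, ← zpow_add, two_mul]
    refine Multiset.map_injective hρinj ?_
    rw [Multiset.map_map, Multiset.map_map]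
    refine (G2Sections.map_eq_of_conj_diagonal
      (P := ((h * j g * h⁻¹ : ↥(twistedD4 L (q ^ 4))) : GL chevD4.Idx L)) (d := ?_) (e := ?_) ?_).symm
    simp only [Function.comp_def]
    rw [← hyv, ← hy2, ← hgy]
    rfl
  have hzero := exp_eq_zero_of_stable hfix' h2
  apply hZ1
  have : y = 1 := by
    refine Subtype.ext (Units.ext ?_)
    rw [hyv, OneMemClass.coe_one, Units.val_one, ← Matrix.diagonal_one]
    congr 1
    funext x
    rw [hzero, ← Int.cast_zero, hρ, zpow_zero, Units.val_one]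
  rwa [hy, conj_eq_one_iff] at this

end Cfsg.Agent.Lib.AltSections
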